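import Groth.Agent.RHomOLib.QCoh
import Groth.Agent.DerPlusAdjLib.Main

/-!
# `RHom(O_Z, -)` is the right adjoint of `Ri_*` on bounded below quasi-coherent objects
-/

set_option autoImplicit false
set_option linter.style.haveILetI false
set_option backward.isDefEq.respectTransparency false
set_option backward.isDefEq.respectTransparency.types false
set_option maxHeartbeats 1000000
set_option synthInstance.maxHeartbeats 200000

universe u

open CategoryTheory CategoryTheory.Limits AlgebraicGeometry HomologicalComplex Pretriangulated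
open Groth.Agent Groth.Agent.DerLib Groth.Agent.PerfDualLib
open DerivedCategory.TStructure (t)

attribute [local instance] HasDerivedCategory.standard
attribute [local instance] ImmPCLib.lim_push ImmPCLib.colim_push

noncomputable section

namespace Groth.Agent.RHomOLib

variable {Z X : Scheme.{u}} (i : Z ⟶ X) [IsClosedImmersion i]

/-- `Ri_*` on bounded below objects is the exact direct image. -/
theorem nonempty_rpushPlus_iso :
    Nonempty (DCoh.RpushPlus i ⋙ DerivedCategory.Plus.ι ≅ DerivedCategory.Plus.ι ⋙ Dual3.pushD i) := by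
  haveI := DerPlusAdjLib.isIso_unit_of_exact (L := Scheme.Modules.pushforward i)
  exact ⟨Localization.liftNatIso DerivedCategory.Plus.Qh (HomotopyCategory.Plus.quasiIso Z.Modules)
    (DerivedCategory.Plus.Qh ⋙ DCoh.RpushPlus i ⋙ DerivedCategory.Plus.ι)
    (DerivedCategory.Plus.Qh ⋙ DerivedCategory.Plus.ι ⋙ Dual3.pushD i) _ _
    (Functor.isoWhiskerRight (asIso (Scheme.Modules.pushforward i).rightDerivedFunctorPlusUnit).symm
        DerivedCategory.Plus.ι ≪≫
      Functor.isoWhiskerLeft (HomotopyCategory.Plus.ι Z.Modules)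
        (Scheme.Modules.pushforward i).mapDerivedCategoryFactorsh.symm)⟩

/-- `Ri_*` is the exact direct image. -/
theorem nonempty_rpush_iso [DCoh.HasRpush i] : Nonempty (DCoh.Rpush i ≅ Dual3.pushD i) := by
  let W := HomologicalComplex.quasiIso Z.Modules (ComplexShape.up ℤ)
  haveI : ((DCoh.pushKh i).totalRightDerived DerivedCategory.Qh
      (HomotopyCategory.quasiIso Z.Modules (ComplexShape.up ℤ))).IsRightDerivedFunctor
      ((DCoh.pushKh i).totalRightDerivedUnit DerivedCategory.Qh
        (HomotopyCategory.quasiIso Z.Modules (ComplexShape.up ℤ)))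
      (HomotopyCategory.quasiIso Z.Modules (ComplexShape.up ℤ)) := inferInstance
  haveI : (Dual3.pushD i).IsRightDerivedFunctor
      (Scheme.Modules.pushforward i).mapDerivedCategoryFactorsh.inv
      (HomotopyCategory.quasiIso Z.Modules (ComplexShape.up ℤ)) :=
    Functor.isRightDerivedFunctor_of_inverts _ _ (Scheme.Modules.pushforward i).mapDerivedCategoryFactorsh
  exact ⟨(DCoh.Rpush i).rightDerivedUnique _
    ((DCoh.pushKh i).totalRightDerivedUnit DerivedCategory.Qh
      (HomotopyCategory.quasiIso Z.Modules (ComplexShape.up ℤ)))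
    (Scheme.Modules.pushforward i).mapDerivedCategoryFactorsh.inv
    (HomotopyCategory.quasiIso Z.Modules (ComplexShape.up ℤ))⟩

/-- Exact direct image keeps upper bounds. -/
theorem isLE_pushD (M : DCoh.D Z) (n : ℤ) [M.IsLE n] : ((Dual3.pushD i).obj M).IsLE n :=
  (DerivedCategory.isLE_iff _ n).2 fun j hj => (ImmPCLib.isZero_HD_push_iff i M j).2
    (DerivedCategory.isZero_of_isLE M n j hj)

/-- Maps out of `i_* M` into bounded below objects only see a truncation of `M`. -/
theorem bijective_comp_truncGEπ {n : ℤ} {K : DCoh.D X} [K.IsGE n] (M : DCoh.D Z) :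
    Function.Bijective fun g : (Dual3.pushD i).obj ((t.truncGE n).obj M) ⟶ K =>
      (Dual3.pushD i).map ((t.truncGEπ n).app M) ≫ g := by
  let T := (Dual3.pushD i).mapTriangle.obj ((t.triangleLTGE n).obj M)
  have hT : T ∈ distTriang _ := (Dual3.pushD i).map_distinguished _ (t.triangleLTGE_distinguished n M)
  haveI h1 : ((t.truncLT n).obj M).IsLE (n - 1) := t.isLE_truncLT_obj M n (n - 1) (by omega)
  haveI : DerivedCategory.IsLE T.obj₁ (n - 1) := isLE_pushD i _ (n - 1)
  haveI : DerivedCategory.IsLE (T.obj₁⟦(1 : ℤ)⟧) (n - 2) := t.isLE_shift T.obj₁ (n - 1) 1 (n - 2) (by omega)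
  refine ⟨fun g g' h => ?_, fun f => ?_⟩
  · obtain ⟨q, hq⟩ := Triangle.yoneda_exact₃ T hT (g - g') (by
      rw [Preadditive.comp_sub]
      exact sub_eq_zero.2 h)
    rw [t.zero q (n - 2) n (by omega), comp_zero] at hq
    exact sub_eq_zero.1 hq
  · obtain ⟨g, hg⟩ := Triangle.yoneda_exact₂ T hT f (t.zero _ (n - 1) n (by omega))
    exact ⟨g, hg.symm⟩

/-- Maps into bounded below objects only see a truncation. -/
theorem bijective_comp_truncGEπ' {n : ℤ} {K : DCoh.D Z} [K.IsGE n] (M : DCoh.D Z) :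
    Function.Bijective fun g : (t.truncGE n).obj M ⟶ K => (t.truncGEπ n).app M ≫ g :=
  ⟨fun _ _ h => t.from_truncGE_obj_ext h, fun f => ⟨t.descTruncGE f n, t.π_descTruncGE f n⟩⟩

variable [Dual3.HasHomO i] [EnoughInjectives X.Modules]

/-- A counit of `i_* ⊣ RHom(O_Z, -)`. -/
theorem exists_counit :
    ∃ ε : Dual3.RHomOPlus i ⋙ DerivedCategory.Plus.ι ⋙ Dual3.pushD i ⟶ DerivedCategory.Plus.ι,
      ∀ (M : DCoh.D Z) (K : DerivedCategory.Plus X.Modules), Function.Bijective
        fun f : M ⟶ ((Dual3.RHomOPlus i).obj K).obj => (Dual3.pushD i).map f ≫ ε.app K := by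
  obtain ⟨adjP⟩ := DerPlusAdjLib.nonempty_adj (Dual3.homOAdj i)
  obtain ⟨eL⟩ := nonempty_rpushPlus_iso i
  let ε : Dual3.RHomOPlus i ⋙ DerivedCategory.Plus.ι ⋙ Dual3.pushD i ⟶ DerivedCategory.Plus.ι :=
    Functor.whiskerLeft (Dual3.RHomOPlus i) eL.inv ≫ Functor.whiskerRight adjP.counit DerivedCategory.Plus.ι
  refine ⟨ε, fun M K => ?_⟩
  let R := ((Dual3.RHomOPlus i).obj K).obj
  obtain ⟨n₁, h₁⟩ := K.property
  obtain ⟨n₂, h₂⟩ := ((Dual3.RHomOPlus i).obj K).property
  let n := min n₁ n₂
  haveI : K.obj.IsGE n₁ := h₁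
  haveI : R.IsGE n₂ := h₂
  haveI : K.obj.IsGE n := t.isGE_of_ge K.obj n n₁ (min_le_left _ _)
  haveI : R.IsGE n := t.isGE_of_ge R n n₂ (min_le_right _ _)
  let M' : DerivedCategory.Plus Z.Modules := ⟨(t.truncGE n).obj M, n, inferInstance⟩
  have hP : Function.Bijective fun f : (t.truncGE n).obj M ⟶ R => (Dual3.pushD i).map f ≫ ε.app K := by
    have hb := ((adjP.homEquiv M' K).symm.bijective)
    have hι : (DerivedCategory.Plus.ι : DerivedCategory.Plus X.Modules ⥤ DCoh.D X).FullyFaithful :=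
      ObjectProperty.fullyFaithfulι _
    have : (fun f : (t.truncGE n).obj M ⟶ R => (Dual3.pushD i).map f ≫ ε.app K) =
        (fun u => eL.inv.app M' ≫ u) ∘ (fun v : (DCoh.RpushPlus i).obj M' ⟶ K => v.hom) ∘
          (adjP.homEquiv M' K).symm ∘ (fun f => ObjectProperty.homMk f) := by
      funext f
      simp only [Function.comp_apply, Adjunction.homEquiv_counit]
      show (Dual3.pushD i).map f ≫ eL.inv.app _ ≫ (adjP.counit.app K).hom = _
      refine ((eL.inv.naturality_assoc (X := M') (Y := (Dual3.RHomOPlus i).obj K) (ObjectProperty.homMk f) _).trans ?_)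
      rfl
    rw [this]
    exact Function.Bijective.comp
      ⟨fun a b h => (cancel_epi (eL.app M').inv).1 h,
        fun v => ⟨(eL.app M').hom ≫ v, (eL.app M').inv_hom_id_assoc v⟩⟩
      ((hι.map_bijective _ _).comp (hb.comp ⟨fun a b h => congrArg InducedCategory.Hom.hom h,
        fun g => ⟨g.hom, rfl⟩⟩))
  have key : (fun f : M ⟶ R => (Dual3.pushD i).map f ≫ ε.app K) ∘
      (fun g => (t.truncGEπ n).app M ≫ g) =
      (fun g => (Dual3.pushD i).map ((t.truncGEπ n).app M) ≫ g) ∘
        fun f : (t.truncGE n).obj M ⟶ R => (Dual3.pushD i).map f ≫ ε.app K := by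
    funext g
    simp
  exact (Function.Bijective.of_comp_iff _ (bijective_comp_truncGEπ' M)).1
    (key ▸ (bijective_comp_truncGEπ (K := K.obj) i M).comp hP)

variable [DCoh.HasRpush i]

/-- The right adjoint of `Ri_*` on bounded below quasi-coherent objects. -/
theorem nonempty_rightAdjoint_iso (hpc : ImmPCLib.PCPushUnit i) (hf : DCoh.RpushPreservesQCoh i)
    (a : DCoh.DQCoh X ⥤ DCoh.DQCoh Z) (adj : DCoh.RpushQ i hf ⊣ a) :
    Nonempty (Dual3.bddι X ⋙ a ⋙ ObjectProperty.ι _ ≅
      Dual3.bddToPlus X ⋙ Dual3.RHomOPlus i ⋙ DerivedCategory.Plus.ι) := by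
  obtain ⟨ε, hε⟩ := exists_counit i
  obtain ⟨r⟩ := nonempty_rpush_iso i
  let R : (Dual3.IsBddBelowQ X).FullSubcategory ⥤ DCoh.DQCoh Z :=
    ObjectProperty.lift _ (Dual3.bddToPlus X ⋙ Dual3.RHomOPlus i ⋙ DerivedCategory.Plus.ι)
      fun K => isQCohD_RHomO i hpc ((Dual3.bddToPlus X).obj K) K.obj.property
  let c : ∀ K, (DCoh.RpushQ i hf).obj (R.obj K) ⟶ (Dual3.bddι X).obj K := fun K =>
    ObjectProperty.homMk (r.hom.app _ ≫ ε.app ((Dual3.bddToPlus X).obj K))
  let η : R ⟶ Dual3.bddι X ⋙ a :=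
    { app := fun K => adj.homEquiv _ _ (c K)
      naturality := fun K K' f => by
        refine ((adj.homEquiv_naturality_left _ _).symm.trans ?_).trans (adj.homEquiv_naturality_right _ _)
        refine congrArg _ (ObjectProperty.hom_ext _ ?_)
        show (DCoh.Rpush i).map (R.map f).hom ≫ r.hom.app _ ≫ ε.app _ = (r.hom.app _ ≫ ε.app _) ≫ _
        rw [r.hom.naturality_assoc, Category.assoc]
        exact congrArg (_ ≫ ·) (ε.naturality ((Dual3.bddToPlus X).map f)) }
  haveI : ∀ K, IsIso (η.app K) := fun K => by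
    refine isIso_of_yoneda_map_bijective _ fun M => ?_
    have hb : Function.Bijective fun f : M ⟶ R.obj K =>
        (adj.homEquiv M ((Dual3.bddι X).obj K)).symm (f ≫ η.app K) := by
      have : (fun f : M ⟶ R.obj K => (adj.homEquiv M ((Dual3.bddι X).obj K)).symm (f ≫ η.app K)) =
          fun f : M ⟶ R.obj K => (ObjectProperty.homMk ((DCoh.Rpush i).map f.hom ≫ r.hom.app (R.obj K).obj ≫
            ε.app ((Dual3.bddToPlus X).obj K) : (DCoh.Rpush i).obj M.obj ⟶ ((Dual3.bddι X).obj K).obj) :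
              (DCoh.RpushQ i hf).obj M ⟶ (Dual3.bddι X).obj K) := funext fun f => by
        refine (adj.homEquiv_naturality_left_symm _ _).trans ?_
        refine congrArg (_ ≫ ·) (Equiv.symm_apply_apply _ _)
      rw [this]
      refine ⟨fun f f' h => ObjectProperty.hom_ext _ ((hε M.obj _).1 ?_), fun g => ?_⟩
      · have h' := congrArg (fun u => u.hom) h
        simp only [r.hom.naturality_assoc] at h'
        exact (cancel_epi (r.hom.app M.obj)).1 h'
      · obtain ⟨f, hf'⟩ := (hε M.obj ((Dual3.bddToPlus X).obj K)).2 (r.inv.app M.obj ≫ g.hom)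
        refine ⟨ObjectProperty.homMk f, ObjectProperty.hom_ext _ ?_⟩
        show (DCoh.Rpush i).map f ≫ r.hom.app _ ≫ ε.app _ = g.hom
        rw [r.hom.naturality_assoc]
        exact (congrArg (r.hom.app M.obj ≫ ·) hf').trans (r.hom_inv_id_app_assoc _ _)
    exact (Function.Bijective.of_comp_iff' (adj.homEquiv M ((Dual3.bddι X).obj K)).symm.bijective _).1 hb
  haveI := NatIso.isIso_of_isIso_app η
  exact ⟨(Functor.isoWhiskerRight (asIso η) (ObjectProperty.ι _)).symm⟩

end Groth.Agent.RHomOLib
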