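import Groth.Agent.FMKLib.Twist
import Groth.Agent.Dual3Lib.DualNat
import Groth.Agent.DerLib.KInjDerived
import Mathlib.Algebra.Homology.DerivedCategory.RightDerivedFunctorPlus

/-!
# The right derived functor of the right adjoint of `- ⊗ P` is `RHom(P, -)`
-/

set_option autoImplicit false
set_option linter.style.haveILetI false
set_option backward.isDefEq.respectTransparency false
set_option backward.isDefEq.respectTransparency.types false
set_option maxHeartbeats 1000000
set_option synthInstance.maxHeartbeats 200000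

universe u

open CategoryTheory CategoryTheory.Limits AlgebraicGeometry HomologicalComplex
open Groth.Agent Groth.Agent.DerLib Groth.Agent.PerfDualLib

attribute [local instance] HasDerivedCategory.standard

noncomputable section

namespace Groth.Agent.RHomOLib

variable {X : Scheme.{u}} (P : X.Modules) {G : X.Modules ⥤ X.Modules} [G.Additive]
  [(DCoh.tensorRightMod P).Additive] (adjG : DCoh.tensorRightMod P ⊣ G)

/-- Tensoring complexes with a module. -/
abbrev TC : Cx X ⥤ Cx X := (DCoh.tensorRightMod P).mapHomologicalComplex (ComplexShape.up ℤ)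

/-- The adjunction on complexes. -/
abbrev adjC : TC P ⊣ G.mapHomologicalComplex (ComplexShape.up ℤ) :=
  KInjDerived.mapHomologicalComplexAdj adjG (ComplexShape.up ℤ)

variable [DCoh.HasLTensorCx (FMKLib.oneCx P)]

/-- The counit of `- ⊗^L P`, on termwise tensor products. -/
def cntP : DerivedCategory.Q ⋙ DCoh.LTensorCx (FMKLib.oneCx P) ⟶ TC P ⋙ DerivedCategory.Q :=
  TensorAssocLib.cnt (FMKLib.oneCx P) ≫ Functor.whiskerRight
    ((Gen.tRSingleIso (DCoh.tensorBi (X := X)) P).symm ≪≫
      NatIso.mapHomologicalComplex (KoszOrthLib.tRNat P) (ComplexShape.up ℤ)).hom DerivedCategory.Q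

theorem isIso_cntP {C : Cx X} (hC : DCoh.IsKFlat C) : IsIso ((cntP P).app C) := by
  haveI := TensorAssocLib.isIso_cnt_of_kFlat (FMKLib.oneCx P) C hC
  rw [cntP, NatTrans.comp_app, Functor.whiskerRight_app]
  infer_instance

variable [DCoh.HasRSheafHom (FMKLib.oneCx P)]

/-- The comparison `Q(G C) ⟶ RHom(P, C)`. -/
def cmpP : G.mapHomologicalComplex (ComplexShape.up ℤ) ⋙ DerivedCategory.Q ⟶
    DerivedCategory.Q ⋙ DCoh.RSheafHom (FMKLib.oneCx P) where
  app C := (DCoh.RSheafHomAdj (FMKLib.oneCx P)).homEquiv _ _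
    ((cntP P).app _ ≫ DerivedCategory.Q.map ((adjC P adjG).counit.app C))
  naturality C C' f := by
    refine (((DCoh.RSheafHomAdj (FMKLib.oneCx P)).homEquiv_naturality_left _ _).symm.trans ?_).trans
      ((DCoh.RSheafHomAdj (FMKLib.oneCx P)).homEquiv_naturality_right _ _)
    refine congrArg _ ?_
    refine ((cntP P).naturality_assoc _ _).trans ?_
    rw [Category.assoc]
    refine congrArg (_ ≫ ·) ?_
    show DerivedCategory.Q.map _ ≫ DerivedCategory.Q.map _ = _
    rw [← Functor.map_comp]
    exact (congrArg DerivedCategory.Q.map ((adjC P adjG).counit.naturality f)).trans (Functor.map_comp _ _ _)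

theorem symm_cmpP {R C : Cx X} (φ : R ⟶ (G.mapHomologicalComplex (ComplexShape.up ℤ)).obj C) :
    ((DCoh.RSheafHomAdj (FMKLib.oneCx P)).homEquiv _ _).symm (DerivedCategory.Q.map φ ≫ (cmpP P adjG).app C) =
      (cntP P).app R ≫ DerivedCategory.Q.map (((adjC P adjG).homEquiv R C).symm φ) := by
  refine ((DCoh.RSheafHomAdj (FMKLib.oneCx P)).homEquiv_naturality_left_symm _ _).trans ?_
  refine (congrArg (_ ≫ ·) (Equiv.symm_apply_apply _ _)).trans ?_
  refine Eq.trans ?_ (congrArg (fun z => (cntP P).app R ≫ DerivedCategory.Q.map z)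
    ((adjC P adjG).homEquiv_counit (g := φ)).symm)
  refine ((cntP P).naturality_assoc φ _).trans ?_
  exact congrArg ((cntP P).app R ≫ ·) (DerivedCategory.Q.map_comp ((TC P).map φ) ((adjC P adjG).counit.app C)).symm

/-- Homotopic adjuncts come from homotopic maps. -/
theorem Q_map_eq_of_adjunct {R C : Cx X} [C.IsKInjective]
    (φ φ' : R ⟶ (G.mapHomologicalComplex (ComplexShape.up ℤ)).obj C)
    (h : DerivedCategory.Q.map (((adjC P adjG).homEquiv R C).symm φ) =
      DerivedCategory.Q.map (((adjC P adjG).homEquiv R C).symm φ')) :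
    DerivedCategory.Q.map φ = DerivedCategory.Q.map φ' := by
  let ψ := ((adjC P adjG).homEquiv R C).symm φ
  let ψ' := ((adjC P adjG).homEquiv R C).symm φ'
  have h1 : (HomotopyCategory.quotient X.Modules (ComplexShape.up ℤ)).map ψ =
      (HomotopyCategory.quotient X.Modules (ComplexShape.up ℤ)).map ψ' := by
    have h0 := KInjUse.quotient_eq_zero_of_Q (f := ψ - ψ') (by rw [Functor.map_sub, sub_eq_zero]; exact h)
    rwa [Functor.map_sub, sub_eq_zero] at h0
  let H := HomotopyCategory.homotopyOfEq _ _ h1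
  have e : ∀ χ : R ⟶ (G.mapHomologicalComplex (ComplexShape.up ℤ)).obj C,
      χ = (adjC P adjG).unit.app R ≫
        (G.mapHomologicalComplex (ComplexShape.up ℤ)).map (((adjC P adjG).homEquiv R C).symm χ) := fun χ =>
    ((((adjC P adjG).homEquiv R C).apply_symm_apply χ).symm).trans ((adjC P adjG).homEquiv_unit (f := _))
  rw [e φ, e φ', Functor.map_comp, Functor.map_comp]
  refine congrArg (_ ≫ ·) ?_
  exact congrArg DerivedCategory.Qh.map (HomotopyCategory.eq_of_homotopy _ _ (G.mapHomotopy H))

/-- The comparison is invertible on K-injective complexes. -/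
theorem isIso_cmpP (C : Cx X) [C.IsKInjective] : IsIso ((cmpP P adjG).app C) := by
  let A := DCoh.RSheafHomAdj (FMKLib.oneCx P)
  let R' := (DCoh.RSheafHom (FMKLib.oneCx P)).obj (DerivedCategory.Q.obj C)
  obtain ⟨P', hP', ⟨e⟩⟩ := KFlatLib.exists_good_rep R'
  haveI := isIso_cntP P hP'.1
  obtain ⟨ψ, hψ⟩ := KInjUse.Q_map_surjective _ C
    (inv ((cntP P).app P') ≫ (A.homEquiv _ _).symm e.hom)
  let φ := (adjC P adjG).homEquiv P' C ψ
  have h0 : DerivedCategory.Q.map φ ≫ (cmpP P adjG).app C = e.hom := by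
    apply (A.homEquiv _ _).symm.injective
    refine (symm_cmpP P adjG φ).trans ?_
    rw [show ((adjC P adjG).homEquiv P' C).symm φ = ψ from Equiv.symm_apply_apply _ _, hψ,
      IsIso.hom_inv_id_assoc]
  let inv' := e.inv ≫ DerivedCategory.Q.map φ
  refine ⟨inv', ?_, by rw [Category.assoc]; exact (congrArg (e.inv ≫ ·) h0).trans e.inv_hom_id⟩
  let GC := (G.mapHomologicalComplex (ComplexShape.up ℤ)).obj C
  let r := (KFlatLib.resψ X).app GC
  haveI : QuasiIso r := KFlatLib.quasiIso_resψ GC
  rw [← cancel_epi (DerivedCategory.Q.map r)]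
  obtain ⟨R₁, s, hs, g, hg⟩ := DerivedCategory.right_fac
    (DerivedCategory.Q.map r ≫ (cmpP P adjG).app C ≫ e.inv)
  haveI := hs
  let t := (KFlatLib.resψ X).app R₁
  haveI : QuasiIso t := KFlatLib.quasiIso_resψ R₁
  haveI := isIso_cntP P (KFlatLib.good_resP R₁).1
  rw [← cancel_epi (DerivedCategory.Q.map s), ← cancel_epi (DerivedCategory.Q.map t)]
  have h1 : DerivedCategory.Q.map s ≫ DerivedCategory.Q.map r ≫ (cmpP P adjG).app C ≫ e.inv =
      DerivedCategory.Q.map g := by rw [hg, IsIso.hom_inv_id_assoc]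
  have h2 : DerivedCategory.Q.map (t ≫ g ≫ φ) = DerivedCategory.Q.map (t ≫ s ≫ r) := by
    refine Q_map_eq_of_adjunct P adjG _ _ ?_
    rw [← cancel_epi ((cntP P).app ((KFlatLib.resP X).obj R₁))]
    refine ((symm_cmpP P adjG _).symm.trans ?_).trans (symm_cmpP P adjG _)
    refine congrArg _ ?_
    simp only [Functor.map_comp, Category.assoc, h0]
    rw [← h1]
    simp only [Category.assoc, e.inv_hom_id]
    erw [Category.comp_id]
  simp only [Functor.map_comp] at h2
  calc DerivedCategory.Q.map t ≫ DerivedCategory.Q.map s ≫ DerivedCategory.Q.map r ≫ (cmpP P adjG).app C ≫ inv'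
      = DerivedCategory.Q.map t ≫ (DerivedCategory.Q.map s ≫ DerivedCategory.Q.map r ≫ (cmpP P adjG).app C ≫
          e.inv) ≫ DerivedCategory.Q.map φ := by simp only [inv', Category.assoc]
    _ = DerivedCategory.Q.map t ≫ DerivedCategory.Q.map s ≫ DerivedCategory.Q.map r := by rw [h1]; exact h2
    _ = _ := (congrArg (fun z => _ ≫ _ ≫ z) (Category.comp_id _).symm)

end Groth.Agent.RHomOLib
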