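import Groth.Agent.RHomOLib.Core
import Groth.Agent.ProjFormLib.QCohMain
import Groth.Agent.BidualSchLib.Exists

/-!
# `RHom(P, -)` as a right derived functor on bounded below complexes
-/

set_option autoImplicit false
set_option linter.style.haveILetI false
set_option backward.isDefEq.respectTransparency false
set_option backward.isDefEq.respectTransparency.types false
set_option maxHeartbeats 1000000
set_option synthInstance.maxHeartbeats 200000

universe u

open CategoryTheory CategoryTheory.Limits AlgebraicGeometry HomologicalComplex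
open Groth.Agent Groth.Agent.DerLib Groth.Agent.PerfDualLib

attribute [local instance] HasDerivedCategory.standard

noncomputable section

namespace Groth.Agent.RHomOLib

variable {X : Scheme.{u}} (P : X.Modules) {G : X.Modules ⥤ X.Modules} [G.Additive]
  [(DCoh.tensorRightMod P).Additive] (adjG : DCoh.tensorRightMod P ⊣ G)
  [DCoh.HasLTensorCx (FMKLib.oneCx P)] [DCoh.HasRSheafHom (FMKLib.oneCx P)]

/-- The comparison on the homotopy category. -/
def cmpH : G.mapHomotopyCategory (ComplexShape.up ℤ) ⋙ DerivedCategory.Qh ⟶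
    DerivedCategory.Qh ⋙ DCoh.RSheafHom (FMKLib.oneCx P) :=
  CategoryTheory.Quotient.natTransLift _
    { app := fun C => (cmpP P adjG).app C
      naturality := fun _ _ f => (cmpP P adjG).naturality f }

/-- The comparison on bounded below complexes. -/
def cmpPlus : HomotopyCategory.Plus.ι X.Modules ⋙ G.mapHomotopyCategory (ComplexShape.up ℤ) ⋙
    DerivedCategory.Qh ⟶ DerivedCategory.Plus.Qh ⋙
      (DerivedCategory.Plus.ι ⋙ DCoh.RSheafHom (FMKLib.oneCx P)) :=
  Functor.whiskerLeft (HomotopyCategory.Plus.ι X.Modules) (cmpH P adjG)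

theorem isIso_cmpPlus_app (K : HomotopyCategory.Plus X.Modules) [∀ n : ℤ, Injective (K.obj.as.X n)] :
    IsIso ((cmpPlus P adjG).app K) := by
  obtain ⟨n, hn⟩ : CochainComplex.plus X.Modules K.obj.as :=
    (HomotopyCategory.plus_quotient_obj_iff K.obj.as).1 K.property
  haveI := hn
  haveI : CochainComplex.IsKInjective K.obj.as := CochainComplex.isKInjective_of_injective K.obj.as n
  exact isIso_cmpP P adjG K.obj.as

variable [EnoughInjectives X.Modules]

include adjG in
/-- A right derived functor of `G` on bounded below complexes is `RHom(P, -)`. -/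
theorem nonempty_iso_of_isRightDerived (E : Cx X) [DCoh.HasLTensorCx E] [DCoh.HasRSheafHom E]
    (eE : DerivedCategory.Q.obj E ≅ DCoh.inD X P)
    (A : DerivedCategory.Plus X.Modules ⥤ DCoh.D X)
    (α : HomotopyCategory.Plus.ι X.Modules ⋙ G.mapHomotopyCategory (ComplexShape.up ℤ) ⋙
      DerivedCategory.Qh ⟶ DerivedCategory.Plus.Qh ⋙ A)
    [A.IsRightDerivedFunctor α (HomotopyCategory.Plus.quasiIso X.Modules)] :
    Nonempty (A ≅ DerivedCategory.Plus.ι ⋙ DCoh.RSheafHom E) := by
  haveI : (DerivedCategory.Plus.ι ⋙ DCoh.RSheafHom (FMKLib.oneCx P)).IsRightDerivedFunctor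
      (cmpPlus P adjG) (HomotopyCategory.Plus.quasiIso X.Modules) :=
    (HomotopyCategory.Plus.localizerMorphism_derives _).isRightDerivedFunctor_of_isIso _ fun Y =>
      isIso_cmpPlus_app P adjG _
  obtain ⟨c⟩ := ProjFormLib.nonempty_lTensor_congr_iso (M := FMKLib.oneCx P) (N := E)
    (FMKLib.oneCxIso P ≪≫ eE.symm)
  exact ⟨A.rightDerivedUnique _ α (cmpPlus P adjG) (HomotopyCategory.Plus.quasiIso X.Modules) ≪≫
    Functor.isoWhiskerLeft _
      ((DCoh.RSheafHomAdj (FMKLib.oneCx P)).rightAdjointUniq ((DCoh.RSheafHomAdj E).ofNatIsoLeft c.symm))⟩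

end Groth.Agent.RHomOLib
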