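import Groth.Agent.RHomOLib.QCoh
import Groth.Agent.ExtShLib.DivExt
import Groth.Agent.ExtShLib.Hcx
import Groth.Agent.ExtShLib.Dualizing
import Mathlib.CategoryTheory.Abelian.Injective.Extend
import Mathlib.Algebra.Homology.Embedding.ExtendHomology

/-!
# The cohomology of `RHom(O_Z, G)` as sheaf Ext
-/

set_option autoImplicit false
set_option linter.style.haveILetI false
set_option backward.isDefEq.respectTransparency false
set_option backward.isDefEq.respectTransparency.types false
set_option maxHeartbeats 1000000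
set_option synthInstance.maxHeartbeats 200000

universe u

open CategoryTheory CategoryTheory.Limits AlgebraicGeometry HomologicalComplex
open Groth.Agent Groth.Agent.DerLib Groth.Agent.PerfDualLib
open PnDualLib (preMap homFun)

attribute [local instance] HasDerivedCategory.standard
attribute [local instance] ImmPCLib.lim_push ImmPCLib.colim_push

noncomputable section

namespace Groth.Agent.RHomOLib

variable {Z X : Scheme.{u}}

/-- Extension by zero commutes with additive functors. -/
theorem nonempty_mapExtendIso {C : Type*} [Category C] [Abelian C] {D : Type*} [Category D] [Abelian D]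
    (F : C ⥤ D) [F.Additive] (K : CochainComplex C ℕ) :
    Nonempty ((F.mapHomologicalComplex _).obj (K.extend ComplexShape.embeddingUpNat) ≅
      ((F.mapHomologicalComplex _).obj K).extend ComplexShape.embeddingUpNat) := by
  let e := ComplexShape.embeddingUpNat
  let φ : ∀ n : ℤ, ((F.mapHomologicalComplex _).obj (K.extend e)).X n ≅
      (((F.mapHomologicalComplex _).obj K).extend e).X n := fun n =>
    if hn : 0 ≤ n then
      F.mapIso (K.extendXIso e (i := n.toNat) (i' := n) (by simp [e]; omega)) ≪≫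
        (((F.mapHomologicalComplex _).obj K).extendXIso e (i := n.toNat) (i' := n) (by simp [e]; omega)).symm
    else (F.map_isZero (K.isZero_extend_X _ n fun k hk => by simp [e] at hk; omega)).iso
      (HomologicalComplex.isZero_extend_X _ _ n fun k hk => by simp [e] at hk; omega)
  refine ⟨HomologicalComplex.Hom.isoOfComponents φ ?_⟩
  rintro n m (rfl : n + 1 = m)
  by_cases hn : 0 ≤ n
  · rw [show φ n = _ from dif_pos hn, show φ (n + 1) = _ from dif_pos (by omega),
      HomologicalComplex.extend_d_eq _ e (i' := n) (j' := n + 1)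
        (i := n.toNat) (j := (n + 1).toNat) (by simp [e]; omega) (by simp [e]; omega)]
    show _ = F.map ((K.extend e).d n (n + 1)) ≫ _
    rw [K.extend_d_eq e (i' := n) (j' := n + 1)
        (i := n.toNat) (j := (n + 1).toNat) (by simp [e]; omega) (by simp [e]; omega)]
    simp only [Iso.trans_hom, Functor.mapIso_hom, Iso.symm_hom, Category.assoc, Iso.inv_hom_id_assoc,
      F.map_comp, Functor.mapHomologicalComplex_obj_d, Iso.map_inv_hom_id_assoc]
  · exact (F.map_isZero (K.isZero_extend_X _ n fun k hk => by simp [e] at hk; omega)).eq_of_src _ _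

/-- `RHom(M[0], G[0])` is computed by `Hom(M, -)` on an injective resolution. -/
theorem nonempty_HD_rSheafHom_hcx (M : X.Modules) [DCoh.HasLTensorCx (FMKLib.oneCx M)]
    [DCoh.HasRSheafHom (FMKLib.oneCx M)] {G : X.Modules} (I : InjectiveResolution G) :
    (∀ n : ℤ, n < 0 → IsZero (DCoh.HD ((DCoh.RSheafHom (FMKLib.oneCx M)).obj (DCoh.inD X G)) n)) ∧
    ∀ k : ℕ, Nonempty (DCoh.HD ((DCoh.RSheafHom (FMKLib.oneCx M)).obj (DCoh.inD X G)) (k : ℤ) ≅
      (ExtShLib.hcx M I).homology k) := by
  let F := homFun M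
  let adjF : DCoh.tensorRightMod M ⊣ F := (HomCohLib.homAdj M).ofNatIsoLeft (FMKLib.tensorSwapNat M)
  haveI : (DCoh.tensorRightMod M).Additive := adjF.left_adjoint_additive
  let C := I.cochainComplex
  haveI : CochainComplex.IsKInjective C := CochainComplex.isKInjective_of_injective C 0
  haveI : QuasiIso I.ι' := inferInstance
  let eC : DerivedCategory.Q.obj C ≅ DCoh.inD X G :=
    (asIso (DerivedCategory.Q.map I.ι')).symm ≪≫ FMKLib.oneCxIso G
  haveI := isIso_cmpP M adjF C
  let FC := (F.mapHomologicalComplex (ComplexShape.up ℤ)).obj C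
  let e : ∀ n : ℤ, DCoh.HD ((DCoh.RSheafHom (FMKLib.oneCx M)).obj (DCoh.inD X G)) n ≅ FC.homology n := fun n =>
    (DerivedCategory.homologyFunctor _ n).mapIso
      (((DCoh.RSheafHom (FMKLib.oneCx M)).mapIso eC).symm ≪≫ (asIso ((cmpP M adjF).app C)).symm) ≪≫
    (DerivedCategory.homologyFunctorFactors _ n).app FC
  let H := ExtShLib.hcx M I
  have hz : ∀ n : ℤ, n < 0 → IsZero (FC.X n) := fun n hn => F.map_isZero (C.isZero_of_isStrictlyGE 0 n hn)
  obtain ⟨ψ⟩ := nonempty_mapExtendIso F I.cocomplex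
  refine ⟨fun n hn => ?_, fun k => ⟨e k ≪≫ (HomologicalComplex.homologyFunctor _ _ (k : ℤ)).mapIso ψ ≪≫
    H.extendHomologyIso ComplexShape.embeddingUpNat (by simp)⟩⟩
  exact ((exactAt_iff_isZero_homology _ _).1 (ShortComplex.exact_of_isZero_X₂ (FC.sc n) (hz n hn))).of_iso (e n)

/-- `i_* H^k RHom(O_Z, G)` is the sheaf Ext out of `i_* O_Z`. -/
theorem nonempty_push_HD_RHomO (i : Z ⟶ X) [IsClosedImmersion i] [Dual3.HasHomO i] [EnoughInjectives X.Modules]
    (K : DerivedCategory.Plus X.Modules) {G : X.Modules} (eK : K.obj ≅ DCoh.inD X G) (I : InjectiveResolution G) :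
    (∀ n : ℤ, n < 0 → IsZero (DCoh.HD ((Dual3.RHomOPlus i).obj K).obj n)) ∧
    ∀ k : ℕ, Nonempty ((Scheme.Modules.pushforward i).obj (DCoh.HD ((Dual3.RHomOPlus i).obj K).obj (k : ℤ)) ≅
      (ExtShLib.hcx (ExtShLib.pO i) I).homology k) := by
  refine ⟨fun n hn => ?_, fun k => ?_⟩
  · obtain ⟨_, _, ⟨e⟩⟩ := exists_push_HD i K n
    refine ImmPCLib.isZero_of_push i (IsZero.of_iso ?_ (e ≪≫ (DerivedCategory.homologyFunctor _ n).mapIso
      ((DCoh.RSheafHom _).mapIso eK)))
    exact (nonempty_HD_rSheafHom_hcx _ I).1 n hn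
  · obtain ⟨_, _, ⟨e⟩⟩ := exists_push_HD i K (k : ℤ)
    obtain ⟨e'⟩ := (nonempty_HD_rSheafHom_hcx (ExtShLib.pO i) I).2 k
    exact ⟨e ≪≫ (DerivedCategory.homologyFunctor _ (k : ℤ)).mapIso ((DCoh.RSheafHom _).mapIso eK) ≪≫ e'⟩

end Groth.Agent.RHomOLib
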