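import Groth.Agent.RHomOLib.Derived
import Groth.Agent.ExtShLib.Shriek
import Groth.Agent.FMKLib.LocFreeHom
import Groth.Prelude.Def_Dual3

/-!
# `i_* RHom(O_Z, -) = RHom(i_* O_Z, -)`
-/

set_option autoImplicit false
set_option linter.style.haveILetI false
set_option backward.isDefEq.respectTransparency false
set_option backward.isDefEq.respectTransparency.types false
set_option maxHeartbeats 1000000
set_option synthInstance.maxHeartbeats 200000

universe u

open CategoryTheory CategoryTheory.Limits AlgebraicGeometry HomologicalComplex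
open Groth.Agent Groth.Agent.DerLib Groth.Agent.PerfDualLib

attribute [local instance] HasDerivedCategory.standard

noncomputable section

namespace Groth.Agent.RHomOLib

variable {Z X : Scheme.{u}} (i : Z ⟶ X) [IsClosedImmersion i] [Dual3.HasHomO i]

/-- `- ⊗ i_* O_Z ⊣ i_* Hom(O_Z, -)`. -/
def adjHomOPush : DCoh.tensorRightMod (ExtShLib.pO i) ⊣ Dual3.homO i ⋙ Scheme.Modules.pushforward i :=
  ((Scheme.Modules.pullbackPushforwardAdjunction i).comp (Dual3.homOAdj i)).ofNatIsoLeft
    ((ExtShLib.tensPushIso i).symm ≪≫ FMKLib.tensorSwapNat (ExtShLib.pO i))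

variable [EnoughInjectives X.Modules] [PreservesFiniteLimits (Scheme.Modules.pushforward i)]
  [PreservesFiniteColimits (Scheme.Modules.pushforward i)]

/-- The comparison with the derived functor of `i_* Hom(O_Z, -)`. -/
def unitPush : HomotopyCategory.Plus.ι X.Modules ⋙
    (Dual3.homO i ⋙ Scheme.Modules.pushforward i).mapHomotopyCategory (ComplexShape.up ℤ) ⋙ DerivedCategory.Qh ⟶
      DerivedCategory.Plus.Qh ⋙ (Dual3.RHomOPlus i ⋙ DerivedCategory.Plus.ι ⋙ Dual3.pushD i) :=
  Functor.whiskerLeft (HomotopyCategory.Plus.ι X.Modules) (Functor.whiskerRight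
      (Functor.mapHomotopyCategoryCompIso (Iso.refl (Dual3.homO i ⋙ Scheme.Modules.pushforward i))
        (ComplexShape.up ℤ)).inv DerivedCategory.Qh) ≫
    Functor.whiskerLeft ((Dual3.homO i).mapHomotopyCategoryPlus ⋙ HomotopyCategory.Plus.ι Z.Modules)
      (Scheme.Modules.pushforward i).mapDerivedCategoryFactorsh.inv ≫
    Functor.whiskerRight (Dual3.homO i).rightDerivedFunctorPlusUnit (DerivedCategory.Plus.ι ⋙ Dual3.pushD i)

/-- `i_* RHom(O_Z, -) ≅ RHom(E, -)` for a representative `E` of `i_* O_Z`. -/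
theorem nonempty_pushD_RHomO_iso (E : Cx X) [DCoh.HasLTensorCx E] [DCoh.HasRSheafHom E]
    (eE : DerivedCategory.Q.obj E ≅ DCoh.inD X (ExtShLib.pO i)) :
    Nonempty (Dual3.RHomOPlus i ⋙ DerivedCategory.Plus.ι ⋙ Dual3.pushD i ≅
      DerivedCategory.Plus.ι ⋙ DCoh.RSheafHom E) := by
  haveI := KFlatLib.hasLTensorCx (FMKLib.oneCx (ExtShLib.pO i))
  haveI := BidualSchLib.hasRSheafHom (FMKLib.oneCx (ExtShLib.pO i))
  haveI : (DCoh.tensorRightMod (ExtShLib.pO i)).Additive := (adjHomOPush i).left_adjoint_additive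
  haveI : (Dual3.RHomOPlus i ⋙ DerivedCategory.Plus.ι ⋙ Dual3.pushD i).IsRightDerivedFunctor
      (unitPush i) (HomotopyCategory.Plus.quasiIso X.Modules) :=
    (HomotopyCategory.Plus.localizerMorphism_derives _).isRightDerivedFunctor_of_isIso _ fun Y => by
      rw [unitPush]
      simp only [NatTrans.comp_app, Functor.whiskerLeft_app, Functor.whiskerRight_app]
      infer_instance
  exact nonempty_iso_of_isRightDerived (ExtShLib.pO i) (adjHomOPush i) E eE _ (unitPush i)

end Groth.Agent.RHomOLib
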