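import Groth.Agent.RHomOLib.Push
import Groth.Agent.PerfDualLib.PseudoC
import Groth.Agent.PerfDualLib.CohPC
import Groth.Agent.ImmPCLib.Basic
import Groth.Agent.ImmPCLib.QCoh
import Groth.Agent.ImmPCLib.FT
import Groth.Agent.DevissLib.ClosedImm
import Groth.Agent.VBResLib.RegPush
import Groth.Agent.QCohLib.Support

/-!
# Cohomology sheaves of `RHom(O_Z, -)`
-/

set_option autoImplicit false
set_option linter.style.haveILetI false
set_option backward.isDefEq.respectTransparency false
set_option backward.isDefEq.respectTransparency.types false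
set_option maxHeartbeats 1000000
set_option synthInstance.maxHeartbeats 200000

universe u

open CategoryTheory CategoryTheory.Limits AlgebraicGeometry HomologicalComplex
open Groth.Agent Groth.Agent.DerLib Groth.Agent.PerfDualLib

attribute [local instance] HasDerivedCategory.standard
attribute [local instance] ImmPCLib.lim_push ImmPCLib.colim_push

noncomputable section

namespace Groth.Agent.RHomOLib

variable {Z X : Scheme.{u}} (i : Z ⟶ X) [IsClosedImmersion i] [Dual3.HasHomO i] [EnoughInjectives X.Modules]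

/-- The cohomology of `RHom(O_Z, K)`, pushed forward. -/
theorem exists_push_HD (K : DerivedCategory.Plus X.Modules) (m : ℤ) :
    ∃ (_ : DCoh.HasLTensorCx (FMKLib.oneCx (ExtShLib.pO i))) (_ : DCoh.HasRSheafHom (FMKLib.oneCx (ExtShLib.pO i))),
      Nonempty ((Scheme.Modules.pushforward i).obj (DCoh.HD ((Dual3.RHomOPlus i).obj K).obj m) ≅
        DCoh.HD ((DCoh.RSheafHom (FMKLib.oneCx (ExtShLib.pO i))).obj K.obj) m) := by
  haveI := KFlatLib.hasLTensorCx (FMKLib.oneCx (ExtShLib.pO i))
  haveI := BidualSchLib.hasRSheafHom (FMKLib.oneCx (ExtShLib.pO i))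
  obtain ⟨e⟩ := nonempty_pushD_RHomO_iso i (FMKLib.oneCx (ExtShLib.pO i)) (FMKLib.oneCxIso _)
  exact ⟨inferInstance, inferInstance,
    ⟨((DerLib.ExactHomology.homologyIso (Scheme.Modules.pushforward i) m).app _).symm ≪≫
      (DerivedCategory.homologyFunctor _ m).mapIso (e.app K)⟩⟩

/-- `RHom(O_Z, -)` preserves quasi-coherence for pseudo-coherent `O_Z`. -/
theorem isQCohD_RHomO (hpc : ImmPCLib.PCPushUnit i) (K : DerivedCategory.Plus X.Modules)
    (hK : DCoh.IsQCohD K.obj) : DCoh.IsQCohD ((Dual3.RHomOPlus i).obj K).obj := fun m => by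
  obtain ⟨a, ha⟩ := K.property
  haveI : K.obj.IsGE a := ha
  obtain ⟨_, _, ⟨e⟩⟩ := exists_push_HD i K m
  haveI : Coh.IsQCoh (DCoh.HD ((DCoh.RSheafHom (FMKLib.oneCx (ExtShLib.pO i))).obj K.obj) m) :=
    isQCoh_HD_rSheafHom_of_isPC _ (PerfLib.isPC_of_iso (FMKLib.oneCxIso _).symm (hpc (a - m - 1))) K.obj hK a m
      (by omega)
  exact ImmPCLib.isQCoh_of_push i _ (QCohLib.isQCoh_of_iso e.symm)

/-- `RHom(O_Z, -)` preserves coherence over a locally Noetherian scheme. -/
theorem isCohD_RHomO [IsLocallyNoetherian X] (hpc : ImmPCLib.PCPushUnit i) (K : DerivedCategory.Plus X.Modules)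
    (hK : DCoh.IsCohD K.obj) : DCoh.IsCohD ((Dual3.RHomOPlus i).obj K).obj := fun m => by
  obtain ⟨a, ha⟩ := K.property
  haveI : K.obj.IsGE a := ha
  obtain ⟨_, _, ⟨e⟩⟩ := exists_push_HD i K m
  have h := QCohLib.isCoh_of_iso e.symm (isCoh_HD_rSheafHom_of_isPC _
    (PerfLib.isPC_of_iso (FMKLib.oneCxIso _).symm (hpc (a - m - 1))) K.obj hK a m (by omega))
  exact ⟨ImmPCLib.isQCoh_of_push i _ h.1, (ImmPCLib.isFT_push_iff i _).1 h.2⟩

/-- On a locally Noetherian scheme `i_* O_Z` is pseudo-coherent. -/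
theorem pcPushUnit [IsLocallyNoetherian X] : ImmPCLib.PCPushUnit i := fun m => by
  haveI : IsLocallyNoetherian Z := LocallyOfFiniteType.isLocallyNoetherian i
  have hc : Coh.IsCoh (ExtShLib.pO i) :=
    VBResLib.isCoh_push_of_isClosedImmersion i (DevissLib.isCoh_structureModule Z)
  refine isPC_of_isCohD _ 0 m fun j => ?_
  by_cases hj : j = 0
  · subst hj
    exact QCohLib.isCoh_of_iso
      ((DerivedCategory.singleFunctorCompHomologyFunctorIso X.Modules 0).app _).symm hc
  · have hz : IsZero (DCoh.HD (DCoh.inD X (ExtShLib.pO i)) j) := by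
      rcases lt_or_gt_of_ne hj with h | h
      · exact DerivedCategory.isZero_of_isGE _ 0 j h
      · exact DerivedCategory.isZero_of_isLE _ 0 j h
    exact ⟨KFlatLib.isQCoh_zero hz, QCohLib.isFT_of_isZero hz⟩

end Groth.Agent.RHomOLib
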